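import Cfsg.Agent.Lib.Fischer.X21.T

set_option autoImplicit false
set_option maxRecDepth 100000

namespace Cfsg.Agent.Fi.X21

open Cfsg.Agent.PC

def sb (i : ℕ) : ℕ := Nat.land (Nat.shiftRight (nat_lit 0xfea951) (Nat.mul (nat_lit 4) i)) (nat_lit 15)
def Vb_t : TN := (TN.node (TN.leaf (nat_lit 0x450e1516592943c9522b088ca8d483449d482c52b40a931b2434aa3465468e4ab0e145a18e151890a8704756aa4a30a2d3c90e9d4a941253c9051d382d1043ab460d4698e221888e2e5651614481558d387490308b45295830614283462448911852c78d123a9529d3c2ca861c552ad484c2033a0d69c56ad3030a2921c0648d2c3a4c2955a2ce1d38b889d140cdaa2a2d69338a91a6562c2240a34a2b3a1070c5a7422558951ae5a311ad38916ab0815685083522e044d20a3c50215143891d3a88e254620e0c0631612581822b1a1522d583419c3438702585120e462d2052a101a54c90e232c94e0b3a7521b5c74eac5874a12548c70c4624d944614915365061d14545a31a34aa60618d9c4870a21564d29c4690aa2388d71b58682a546903252a912144870a93084c982061510a5a912941cb8a254c4832c2c30601486871d58b12a5165520c188c2940cb0b0d3ab4e145678e2554b04a43ab162d0aa868b1c594ae48ace2d3a5462b4834e952854aa64a90a154a8d58d4a10a141ab55820a9061b2898a1e585129c4a74e1e282921d0ab15932a50e8c4690e86268d6ab181832b3ab0e03589168d2c5899e26ac9951854615386460c1e7140e366cc034))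 (TN.leaf (nat_lit 0x62a9529c42946820434e2526b0e1e0ab122228b85143c58715309459b3634c942a5571b58290963a509aa1870e961a2c114263561c28112231a14b2b06b8a2d0a7428c36b479c3630b294aac22d5820aa4460971c566cd935a9421d48586855674ea42438f0a0cb918d0a100ac549529d445062b3a1158b1698d965a34a134ab4a824a30b1b587161c586c1051a1530e2a517142474e2444b0e1d48504ab4)))
noncomputable def Vb (i : ℕ) : ℕ := get9 Vb_t (nat_lit 7) (nat_lit 127) i
def Bs : List ℕ := [nat_lit 1, nat_lit 5, nat_lit 602, nat_lit 286, nat_lit 663, nat_lit 487]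
noncomputable def fb : ℕ → ℕ := dscE (fun j => T (sb j)) (fun j => P (sb j)) Vb (nat_lit 6) (nat_lit 8)
theorem b0 : Nat.beq (rng fb (nat_lit 0) (nat_lit 693)) (nat_lit 0) = true := by decide +kernel
theorem hb0 : ∀ i < 693, fb i = 0 := by
  have h := zero_lt_zero fb
  have h := zero_lt_add (a := (nat_lit 0)) (n := (nat_lit 693)) (b := (nat_lit 693)) h b0 rfl
  exact h
theorem base {G : Type*} [Group G] {D : Set G} {pt : ℕ → G} (F : FD D T P 693 16 pt) : Base pt Bs :=
  (F.sub sb (m' := 6) (by decide +kernel)).base_let (dsc_of hb0) (by decide +kernel)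
theorem Bs_lt : ∀ b ∈ Bs, b < 693 := by decide +kernel

end Cfsg.Agent.Fi.X21
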