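import Cfsg.Agent.Lib.Fischer.X21.T

set_option autoImplicit false
set_option maxRecDepth 100000

namespace Cfsg.Agent.Fi.X21

open Cfsg.Agent.PC

theorem r0 : Nat.beq (rng f (nat_lit 0) (nat_lit 693)) (nat_lit 0) = true := by decide +kernel

end Cfsg.Agent.Fi.X21
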